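import Mathlib

/-!
# A ring between two charts is finitely generated
-/

set_option autoImplicit false
set_option linter.style.haveILetI false

universe u

open Polynomial

namespace Groth.Agent.ContrModel

variable {A₀ K : Type u} [CommRing A₀] [Field K] [Algebra A₀ K]

/-- Polynomial expressions in `u` and in `u⁻¹` at the same time lie in a finite module. -/
theorem exists_span_bound [IsNoetherianRing A₀] {v : K} (hv : v ≠ 0) :
    ∃ d : ℕ, ∀ (p q : A₀[X]), aeval v p = aeval v⁻¹ q →
      aeval v p ∈ Submodule.span A₀ ((fun i : ℕ => v ^ i) '' Set.Iio d) := by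
  classical
  let I : Ideal A₀[X] := RingHom.ker (aeval (R := A₀) v).toRingHom
  obtain ⟨d₀, hd₀⟩ := monotone_stabilizes_iff_noetherian.2 (inferInstance : IsNoetherian A₀ A₀)
    ⟨I.leadingCoeffNth, fun a b h => I.leadingCoeffNth_mono h⟩
  refine ⟨d₀ + 1, fun p q => ?_⟩
  generalize hN : p.natDegree = N
  induction N using Nat.strong_induction_on generalizing p with
  | _ N ih =>
    intro hpq
    by_cases hle : N ≤ d₀
    · rw [aeval_eq_sum_range, hN]
      refine Submodule.sum_mem _ fun i hi => Submodule.smul_mem _ _ (Submodule.subset_span ⟨i, ?_, rfl⟩)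
      rw [Finset.mem_range] at hi
      exact Set.mem_Iio.2 (by omega)
    · push Not at hle
      let m := q.natDegree
      have hrev : aeval v (q.reverse) = v ^ m * aeval v⁻¹ q := by
        letI : Invertible v := invertibleOfNonzero hv
        have h := eval₂_reverse_mul_pow (algebraMap A₀ K) v⁻¹ q
        simp only [invOf_eq_inv, inv_inv] at h
        have hi : Invertible v⁻¹ := invertibleOfNonzero (inv_ne_zero hv)
        have h2 := eval₂_reverse_mul_pow (algebraMap A₀ K) v⁻¹ q
        simp only [invOf_eq_inv, inv_inv] at h2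
        rw [aeval_def, aeval_def, ← h2, inv_pow, mul_comm (v ^ _), mul_assoc,
          inv_mul_cancel₀ (pow_ne_zero _ hv), mul_one]
      let P := X ^ m * p - q.reverse
      have hP : P ∈ I := by
        show aeval v P = 0
        rw [map_sub, map_mul, map_pow, aeval_X, hrev, hpq, sub_self]
      have hp0 : p ≠ 0 := fun h => by rw [h, natDegree_zero] at hN; omega
      have hcoeff : P.coeff (N + m) = p.leadingCoeff := by
        rw [coeff_sub, coeff_X_pow_mul, coeff_eq_zero_of_natDegree_lt
          (lt_of_le_of_lt (reverse_natDegree_le q) (by omega)), sub_zero, leadingCoeff, hN]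
      have hdeg : P.natDegree ≤ N + m := by
        refine (natDegree_sub_le _ _).trans (max_le ?_ ((reverse_natDegree_le q).trans (Nat.le_add_left _ _)))
        refine natDegree_mul_le.trans ?_
        rw [hN]
        exact (Nat.add_le_add_right (natDegree_X_pow_le _) N).trans (by omega)
      have hc : p.leadingCoeff ∈ I.leadingCoeffNth (N + m) := by
        rw [Ideal.mem_leadingCoeffNth]
        refine ⟨P, hP, degree_le_of_natDegree_le hdeg, ?_⟩
        rw [leadingCoeff, le_antisymm hdeg (le_natDegree_of_ne_zero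
          (hcoeff.symm ▸ leadingCoeff_ne_zero.2 hp0)), hcoeff]
      have heq : I.leadingCoeffNth d₀ = I.leadingCoeffNth (N + m) := hd₀ (N + m) (by omega)
      rw [← heq, Ideal.mem_leadingCoeffNth] at hc
      obtain ⟨g, hg, hgd, hgl⟩ := hc
      have hgn : g.natDegree ≤ d₀ := natDegree_le_of_degree_le hgd
      let p' := p - X ^ (N - g.natDegree) * g
      have hav : aeval v p' = aeval v p := by
        rw [map_sub, map_mul, show aeval v g = 0 from hg, mul_zero, sub_zero]
      have hlt : p'.natDegree < N := by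
        have h1 : p'.natDegree ≤ N := by
          refine (natDegree_sub_le _ _).trans (max_le hN.le (natDegree_mul_le.trans ?_))
          exact (Nat.add_le_add_right (natDegree_X_pow_le _) _).trans (by omega)
        have h2 : p'.coeff N = 0 := by
          rw [coeff_sub, coeff_X_pow_mul', if_pos (Nat.sub_le _ _),
            show N - (N - g.natDegree) = g.natDegree by omega, ← leadingCoeff, hgl, leadingCoeff, hN, sub_self]
        rcases Nat.lt_or_ge p'.natDegree N with h | h
        · exact h
        · exfalso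
          have he : p'.natDegree = N := le_antisymm h1 h
          have : p' = 0 := leadingCoeff_eq_zero.1 (by rw [leadingCoeff, he, h2])
          rw [this, natDegree_zero] at he
          omega
      rw [← hav]
      exact ih _ hlt p' rfl (hav.trans hpq)

/-- A subalgebra inside two chart algebras of finite type is of finite type. -/
theorem fg_of_two_charts {R K : Type u} [CommRing R] [IsNoetherianRing R] [Field K] [Algebra R K]
    (A : Subalgebra R K) {v : K} (hv : v ≠ 0) (S₀ S₁ : Finset K)
    (h₀ : ∀ s ∈ S₀, s ∈ Algebra.adjoin R ((A : Set K) ∪ {v}))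
    (h₁ : ∀ s ∈ S₁, s ∈ Algebra.adjoin R ((A : Set K) ∪ {v⁻¹}))
    (hA₀ : ∀ a ∈ A, a ∈ Algebra.adjoin R (S₀ : Set K)) (hA₁ : ∀ a ∈ A, a ∈ Algebra.adjoin R (S₁ : Set K)) :
    A.FG := by
  classical
  have key : ∀ (w : K) (s : K), s ∈ Algebra.adjoin R ((A : Set K) ∪ {w}) →
      ∃ T : Finset K, (T : Set K) ⊆ A ∧ s ∈ Algebra.adjoin R ((T : Set K) ∪ {w}) := fun w s hs => by
    induction hs using Algebra.adjoin_induction with
    | mem x hx =>
      rcases hx with hx | hx
      · exact ⟨{x}, by simpa using hx, Algebra.subset_adjoin (Or.inl (by simp))⟩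
      · exact ⟨∅, by simp, Algebra.subset_adjoin (Or.inr hx)⟩
    | algebraMap r => exact ⟨∅, by simp, Subalgebra.algebraMap_mem _ r⟩
    | add x y _ _ hx hy =>
      obtain ⟨T, hT, hxT⟩ := hx
      obtain ⟨T', hT', hyT⟩ := hy
      exact ⟨T ∪ T', by simp [hT, hT'], add_mem
        (Algebra.adjoin_mono (by rw [Finset.coe_union]; exact Set.union_subset_union_left _ Set.subset_union_left) hxT)
        (Algebra.adjoin_mono (by rw [Finset.coe_union]; exact Set.union_subset_union_left _ Set.subset_union_right) hyT)⟩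
    | mul x y _ _ hx hy =>
      obtain ⟨T, hT, hxT⟩ := hx
      obtain ⟨T', hT', hyT⟩ := hy
      exact ⟨T ∪ T', by simp [hT, hT'], mul_mem
        (Algebra.adjoin_mono (by rw [Finset.coe_union]; exact Set.union_subset_union_left _ Set.subset_union_left) hxT)
        (Algebra.adjoin_mono (by rw [Finset.coe_union]; exact Set.union_subset_union_left _ Set.subset_union_right) hyT)⟩
  choose T0 hT0 hT0' using fun s : S₀ => key v s.1 (h₀ s.1 s.2)
  choose T1 hT1 hT1' using fun s : S₁ => key v⁻¹ s.1 (h₁ s.1 s.2)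
  let T : Finset K := Finset.univ.biUnion T0 ∪ Finset.univ.biUnion T1
  have hTA : (T : Set K) ⊆ A := by
    intro x hx
    simp only [T, Finset.coe_union, Set.mem_union, Finset.mem_coe, Finset.mem_biUnion] at hx
    rcases hx with ⟨s, -, h⟩ | ⟨s, -, h⟩
    · exact hT0 s h
    · exact hT1 s h
  let A₀ : Subalgebra R K := Algebra.adjoin R (T : Set K)
  have hA₀A : A₀ ≤ A := Algebra.adjoin_le hTA
  haveI : Algebra.FiniteType R A₀ := A₀.fg_iff_finiteType.1 ⟨T, rfl⟩
  haveI : IsNoetherianRing A₀ := Algebra.FiniteType.isNoetherianRing R A₀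
  have hpoly : ∀ (w : K), ∀ x ∈ Algebra.adjoin R ((T : Set K) ∪ {w}), ∃ p : A₀[X], aeval w p = x := fun w x hx => by
    have h : Algebra.adjoin R ((T : Set K) ∪ {w}) ≤ ((aeval (R := A₀) w).restrictScalars R).range := by
      refine Algebra.adjoin_le ?_
      rintro y (hy | rfl)
      · exact ⟨C ⟨y, Algebra.subset_adjoin hy⟩, aeval_C _ _⟩
      · exact ⟨X, aeval_X _⟩
    exact h hx
  have hsub0 : Algebra.adjoin R (S₀ : Set K) ≤ Algebra.adjoin R ((T : Set K) ∪ {v}) := by
    refine Algebra.adjoin_le fun s hs => Algebra.adjoin_mono ?_ (hT0' ⟨s, hs⟩)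
    refine Set.union_subset_union_left _ fun x hx => ?_
    simp only [T, Finset.coe_union, Set.mem_union, Finset.mem_coe, Finset.mem_biUnion]
    exact Or.inl ⟨⟨s, hs⟩, Finset.mem_univ _, hx⟩
  have hsub1 : Algebra.adjoin R (S₁ : Set K) ≤ Algebra.adjoin R ((T : Set K) ∪ {v⁻¹}) := by
    refine Algebra.adjoin_le fun s hs => Algebra.adjoin_mono ?_ (hT1' ⟨s, hs⟩)
    refine Set.union_subset_union_left _ fun x hx => ?_
    simp only [T, Finset.coe_union, Set.mem_union, Finset.mem_coe, Finset.mem_biUnion]
    exact Or.inr ⟨⟨s, hs⟩, Finset.mem_univ _, hx⟩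
  obtain ⟨d, hd⟩ := exists_span_bound (A₀ := A₀) hv
  let M : Submodule A₀ K :=
    { carrier := A
      add_mem' := fun ha hb => A.add_mem ha hb
      zero_mem' := A.zero_mem
      smul_mem' := fun c x hx => A.mul_mem (hA₀A c.2) hx }
  have hM : M ≤ Submodule.span A₀ ((fun i : ℕ => v ^ i) '' Set.Iio d) := fun a ha => by
    obtain ⟨p, hp⟩ := hpoly v a (hsub0 (hA₀ a ha))
    obtain ⟨q, hq⟩ := hpoly v⁻¹ a (hsub1 (hA₁ a ha))
    exact hp ▸ hd p q (hp.trans hq.symm)
  haveI : IsNoetherian A₀ ↥(Submodule.span A₀ ((fun i : ℕ => v ^ i) '' Set.Iio d)) :=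
    isNoetherian_span_of_finite _ ((Set.finite_Iio d).image _)
  obtain ⟨G, hG⟩ := (inferInstance : IsNoetherian A₀ ↥(Submodule.span A₀ ((fun i : ℕ => v ^ i) '' Set.Iio d))).noetherian
    (Submodule.comap (Submodule.subtype _) M)
  refine ⟨T ∪ G.image Subtype.val, le_antisymm (Algebra.adjoin_le ?_) fun a ha => ?_⟩
  · intro x hx
    simp only [Finset.coe_union, Finset.coe_image, Set.mem_union, Set.mem_image] at hx
    rcases hx with hx | ⟨g, hg, rfl⟩
    · exact hTA hx
    · exact (hG.le (Submodule.subset_span hg) :)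
  · have h : (⟨a, hM ha⟩ : ↥(Submodule.span A₀ ((fun i : ℕ => v ^ i) '' Set.Iio d))) ∈ Submodule.span A₀ (G : Set _) :=
      hG.ge ha
    have h2 := Submodule.mem_map_of_mem (f := Submodule.subtype _) h
    rw [Submodule.map_span] at h2
    refine Submodule.span_induction (p := fun x _ => x ∈ Algebra.adjoin R (((T ∪ G.image Subtype.val : Finset K)) : Set K)) ?_ (zero_mem _) (fun _ _ _ _ hx hy => add_mem hx hy) ?_ h2
    · rintro _ ⟨g, hg, rfl⟩
      refine Algebra.subset_adjoin ?_
      simp only [Finset.coe_union, Finset.coe_image]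
      exact Or.inr ⟨g, hg, rfl⟩
    · intro c x _ hx
      exact mul_mem (Algebra.adjoin_mono (by simp) c.2) hx

end Groth.Agent.ContrModel
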