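import Groth.Agent.Lib.ContrModel32.Main
import Mathlib

/-!
# Intersection numbers after a contraction
-/

set_option autoImplicit false
set_option linter.style.haveILetI false
set_option linter.unusedSectionVars false
set_option backward.isDefEq.respectTransparency false
set_option maxHeartbeats 1600000

universe u

open CategoryTheory CategoryTheory.Limits AlgebraicGeometry TopologicalSpace

noncomputable section

namespace Groth.Agent.ContrModel

open PointBlowUp MinModel

variable {R : Type u} [CommRing R] [IsDomain R] [IsDiscreteValuationRing R]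
variable {C X X' : Scheme.{u}} {f : C ⟶ Spec (CommRingCat.of (FractionRing R))}
  {p' : X' ⟶ Spec (CommRingCat.of R)} {b : X ⟶ X'} {y : X'}
variable {n : ℕ} {Γ : Fin (n + 1) → ArSurf.VertComp R (Over.mk (b ≫ p'))} (D : Ctx b p' y C f Γ)
include D

/-- The total transform of a component: itself once, and some multiple of the contracted curve. -/
theorem Ctx.exists_transform {Δ : ArSurf.VertComp R (Over.mk p')} {j : Fin n}
    (hΔ : Set.range (Δ.ι.base : _ → X') = b.base '' Set.range ((Γ j.castSucc).ι.base : _ → X))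
    (hE' : BlowUp.IsEffCartierIdeal Δ.ι.ker) :
    ∃ e : ℕ, BlowUp.IsEffCartierIdeal (Δ.ι.ker.comap b) ∧ ∀ P : ArSurf.VertComp R (Over.mk (b ≫ p')),
      ArInter.ideg P (Δ.ι.ker.comap b) =
        ArInter.ideg P (Γ j.castSucc).ι.ker + (e : ℤ) * ArInter.ideg P (Γ (Fin.last n)).ι.ker := by
  classical
  haveI := D.data.noeth; haveI := D.data.proper
  haveI := ArInter.isNoetherian_left D.surf.pre
  haveI : IsNoetherian X := inferInstanceAs (IsNoetherian (Over.mk (b ≫ p')).left)
  haveI := (Γ (Fin.last n)).isClosedImmersion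
  have hseq : Models.IsContractionSeq b := by
    have h : Models.IsContractionOf (Γ (Fin.last n)).ι b := by
      refine ⟨D.data.noeth, D.data.proper, y, D.data.closed, ?_, D.data.regular, D.data.dim, D.data.blow _⟩
      haveI := (Γ (Fin.last n)).isIntegral
      ext w
      constructor
      · rintro ⟨v, rfl⟩
        exact D.last_over v
      · rintro rfl
        exact ⟨genericPoint _, D.last_over _⟩
    have h2 := Models.IsContractionSeq.step (Γ (Fin.last n)).ι b (𝟙 X') (Γ (Fin.last n)).isClosedImmersion D.exc h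
      (.iso (Iso.refl X'))
    rwa [Category.comp_id] at h2
  let E : Fin (n + 1) → X.IdealSheafData := fun q => (Γ q).ι.ker
  have hF : BlowUp.IsEffCartierIdeal (Δ.ι.ker.comap b) := isEffCartierIdeal_comap_seq hseq hE'
  have hnd : ∀ q (J : X.IdealSheafData), Δ.ι.ker.comap b ≤ J → J ≤ E q → J * E q ≠ J := by
    intro q J hJ hJE he
    obtain ⟨z, hzJ, -, hmax⟩ := SecDiv.exists_maximal_of_colon_eq (D.eff q) he
      ((ArInter.coe_support_ker (Γ q)).ge (ArInter.genPtOf_mem_range (Γ q)))
    obtain ⟨w, hw, hne⟩ := SecDiv.exists_proper_generisation hF (Scheme.IdealSheafData.support_antitone hJ hzJ)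
    exact hne (hmax w hw)
  obtain ⟨a, Q, hZ, -, hno⟩ := SecDiv.exists_peel E D.eff (Δ.ι.ker.comap b) hnd
  rw [Finsupp.prod_fintype _ _ fun q => pow_zero _] at hZ
  have hQ : BlowUp.IsEffCartierIdeal Q := EffCartier.isEffCartierIdeal_of_mul_right (hZ ▸ hF)
  have hno' : ∀ q, Models.genPtOf R (Over.mk (b ≫ p')) (Γ q) ∉ (Q.support : Set X) :=
    fun q h => hno q (ArInter.le_ker_of_genPtOf_mem (X := Over.mk (b ≫ p')) (Γ := Γ q) (D := Q) h)
  have hsupp : ∀ x : X, x ∈ (Δ.ι.ker.comap b).support → x ∈ Set.range ((Γ j.castSucc).ι.base : _ → X) ∨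
      x ∈ Set.range ((Γ (Fin.last n)).ι.base : _ → X) := fun x hx => by
    by_cases hxy : b x = y
    · exact Or.inr (D.preimage_pt.le hxy)
    · rw [Scheme.IdealSheafData.support_comap] at hx
      obtain ⟨z, hz, hzx⟩ := hΔ.le ((ArInter.coe_support_ker Δ).le hx)
      exact Or.inl (eq_of_ne D.data.closed (D.data.blow _) hxy hzx.symm ▸ hz)
  have hsym : Δ.ι.ker.comap b = (∏ q, E q ^ a q) * Q := hZ
  have hQtop : Q = ⊤ := by
    rw [← Scheme.IdealSheafData.support_eq_bot_iff]
    ext z
    refine ⟨fun hz => ?_, fun h => h.elim⟩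
    obtain ⟨w, hw, -, hwmax⟩ := SecDiv.exists_maximal_generisation Q hz
    have hw1 := SecDiv.ringKrullDim_generic hQ hw hwmax
    have hwF : w ∈ (Δ.ι.ker.comap b).support := by
      rw [hsym, Scheme.IdealSheafData.support_mul]
      exact Or.inr hw
    obtain ⟨q, hq⟩ : ∃ q, w ∈ Set.range ((Γ q).ι.base : _ → X) :=
      (hsupp w hwF).elim (fun h => ⟨_, h⟩) fun h => ⟨_, h⟩
    rw [ArInter.range_eq_closure, ← specializes_iff_mem_closure] at hq
    have hne : Models.genPtOf R (Over.mk (b ≫ p')) (Γ q) ≠ w := fun he => hno' q (he ▸ hw)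
    have h2 : (2 : WithBot ℕ∞) ≤ ringKrullDim (X.presheaf.stalk w) :=
      SecDiv.two_le_of_specializes hq hne (ArInter.ringKrullDim_genPtOf D.surf.pre (D.eff q))
    rw [hw1] at h2
    exact absurd h2 (by decide)
  have hzero : ∀ q, q ≠ j.castSucc → q ≠ Fin.last n → a q = 0 := fun q h1 h2 => by
    by_contra h0
    have hm : Models.genPtOf R (Over.mk (b ≫ p')) (Γ q) ∈ (Δ.ι.ker.comap b).support := by
      rw [hsym, Scheme.IdealSheafData.support_mul]
      refine Or.inl ?_
      rw [← Finset.mul_prod_erase _ _ (Finset.mem_univ q), Scheme.IdealSheafData.support_mul]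
      refine Or.inl ?_
      obtain ⟨k, hk⟩ := Nat.exists_eq_succ_of_ne_zero h0
      rw [hk, pow_succ, Scheme.IdealSheafData.support_mul]
      exact Or.inr ((ArInter.coe_support_ker (Γ q)).ge (ArInter.genPtOf_mem_range (Γ q)))
    rcases hsupp _ hm with h | h
    · exact ArInter.genPtOf_notMem_range D.surf.pre (D.eff q) (D.eff _) (fun e => h1 (D.list.1 e)) h
    · exact ArInter.genPtOf_notMem_range D.surf.pre (D.eff q) (D.eff _) (fun e => h2 (D.list.1 e)) h
  have hjl : j.castSucc ≠ Fin.last n := Fin.castSucc_ne_last j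
  have hone : a j.castSucc = 1 := by
    let ξ := Models.genPtOf R (Over.mk (b ≫ p')) (Γ j.castSucc)
    have h1 : DivDesc12.stI (Δ.ι.ker.comap b) ξ = IsLocalRing.maximalIdeal (X.presheaf.stalk ξ) := by
      haveI := isIso_stalkMap_off D.data.closed (D.data.blow _) (D.gen_off hjl)
      have hst : DivDesc12.stI Δ.ι.ker (b ξ) = IsLocalRing.maximalIdeal (X'.presheaf.stalk (b ξ)) := by
        have aux : ∀ w : X', w = Models.genPtOf R (Over.mk p') Δ →
            DivDesc12.stI Δ.ι.ker w = IsLocalRing.maximalIdeal (X'.presheaf.stalk w) := by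
          rintro w rfl
          exact ArInter.stI_ker_genPtOf Δ
        exact aux _ (D.genPt_eq hΔ).symm
      refine (DivDesc12.stI_comap _ _ _).trans ((congrArg (Ideal.map (b.stalkMap ξ).hom) hst).trans ?_)
      exact IsLocalRing.map_ringEquiv_maximalIdeal (asIso (b.stalkMap ξ)).commRingCatIsoToRingEquiv
    rw [hsym, hQtop, SecDiv.mul_top', ArInter.stI_finsetProd (X := Over.mk (b ≫ p')) E a ξ,
      Finset.prod_eq_single j.castSucc] at h1
    · rw [ArInter.stI_ker_genPtOf] at h1
      obtain ⟨U, hξU, g, hg, hgnzd, -, -⟩ := SecDiv.exists_stalk_eqn (D.eff j.castSucc)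
        ((ArInter.coe_support_ker (Γ j.castSucc)).ge (ArInter.genPtOf_mem_range (Γ j.castSucc)))
      have hdim : ringKrullDim (X.presheaf.stalk ξ) = 1 := ArInter.ringKrullDim_genPtOf D.surf.pre (D.eff j.castSucc)
      rcases Nat.lt_trichotomy (a j.castSucc) 1 with h | h | h
      · rw [Nat.lt_one_iff.1 h, pow_zero, Ideal.one_eq_top] at h1
        exact absurd h1.symm (IsLocalRing.maximalIdeal.isMaximal _).ne_top
      · exact h
      · exfalso
        haveI : IsNoetherianRing (X.presheaf.stalk ξ) := inferInstance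
        have hle : IsLocalRing.maximalIdeal (X.presheaf.stalk ξ) ≤
            IsLocalRing.maximalIdeal (X.presheaf.stalk ξ) • IsLocalRing.maximalIdeal (X.presheaf.stalk ξ) := by
          rw [smul_eq_mul, ← pow_two]
          exact h1.ge.trans (Ideal.pow_le_pow_right h)
        have hbot := Submodule.eq_bot_of_le_smul_of_le_jacobson_bot _ _
          (IsNoetherian.noetherian _) hle (IsLocalRing.maximalIdeal_le_jacobson _)
        have hf : IsField (X.presheaf.stalk ξ) := IsLocalRing.isField_iff_maximalIdeal_eq.2 hbot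
        have h0 : ringKrullDim (X.presheaf.stalk ξ) = 0 := ringKrullDim_eq_zero_of_isField hf
        rw [h0] at hdim
        exact absurd hdim (by decide)
    · intro q _ hqp
      rw [ArInter.stI_eq_top_of_notMem, Ideal.top_pow]
      · exact Ideal.one_eq_top.symm
      · rw [ArInter.coe_support_ker]
        exact ArInter.genPtOf_notMem_range D.surf.pre (D.eff _) (D.eff q) fun e => hqp (D.list.1 e).symm
    · exact fun h => absurd (Finset.mem_univ _) h
  refine ⟨a (Fin.last n), hF, fun P => ?_⟩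
  rw [hsym, hQtop, SecDiv.mul_top']
  refine (ArInter.ideg_finsetProd D.surf P E a D.eff Finset.univ).trans ?_
  rw [Finset.sum_eq_add j.castSucc (Fin.last n) hjl ?_ (fun h => absurd (Finset.mem_univ _) h)
    (fun h => absurd (Finset.mem_univ _) h), hone, Nat.cast_one, one_mul]
  intro q _ hq
  rw [hzero q hq.1 hq.2, Nat.cast_zero, zero_mul]

/-- A pulled back module has degree zero on the contracted curve. -/
theorem Ctx.ideg_last {J : X'.IdealSheafData} (hJ : BlowUp.IsEffCartierIdeal J)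
    (hJ' : BlowUp.IsEffCartierIdeal (J.comap b)) :
    ArInter.ideg (Γ (Fin.last n)) (J.comap b) = 0 := by
  haveI := (Γ (Fin.last n)).isClosedImmersion
  haveI := (Γ (Fin.last n)).isIntegral
  let ι : (Γ (Fin.last n)).curve.left ⟶ X := (Γ (Fin.last n)).ι
  haveI := isClosedImmersion_residue D.data.closed
  obtain ⟨l, hl⟩ := RedSepLib.exists_lift_of_range_subset (ι ≫ b) (X'.fromSpecResidueField y) (by
    rintro _ ⟨w, rfl⟩
    rw [Scheme.range_fromSpecResidueField]
    exact D.last_over w)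
  obtain ⟨e1⟩ := ArInter.nonempty_pullback_idealMod b hJ hJ'
  obtain ⟨e2⟩ := CubeField.nonempty_trivial_field ((Scheme.Modules.pullback (X'.fromSpecResidueField y)).obj
    (ClSub.idealMod J)) (PicLoc.isInvertible_pullback _ (M2.isInvertible_idealMod J hJ))
  let φ := (Scheme.Modules.pullback ι).mapIso e1.symm ≪≫ (Scheme.Modules.pullbackComp ι b).app _ ≪≫
    (Scheme.Modules.pullbackCongr hl.symm).app _ ≪≫ ((Scheme.Modules.pullbackComp l _).app _).symm ≪≫
    (Scheme.Modules.pullback l).mapIso e2 ≪≫ PicLoc.pullbackStructureIso l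
  unfold ArInter.ideg
  rw [CurveCoh17.deg_iso φ, CurveCoh17.deg_structureModule]

/-- The degree on a component and on its image agree for pulled back modules. -/
theorem Ctx.ideg_image {Δ : ArSurf.VertComp R (Over.mk p')} {i : Fin n}
    (hΔ : Set.range (Δ.ι.base : _ → X') = b.base '' Set.range ((Γ i.castSucc).ι.base : _ → X))
    {J : X'.IdealSheafData} (hJ : BlowUp.IsEffCartierIdeal J) (hJ' : BlowUp.IsEffCartierIdeal (J.comap b))
    (hS' : ArInter.IsSurf (Over.mk p')) :
    ArInter.ideg (Γ i.castSucc) (J.comap b) = ArInter.ideg Δ J := by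
  haveI := D.data.proper
  haveI := (Γ i.castSucc).isClosedImmersion
  haveI := (Γ i.castSucc).isIntegral
  haveI := Δ.isClosedImmersion
  haveI := Δ.isIntegral
  let G := (Γ i.castSucc).curve.left
  let ι : G ⟶ X := (Γ i.castSucc).ι
  let ι' : Δ.curve.left ⟶ X' := Δ.ι
  obtain ⟨h, hh⟩ := RedSepLib.exists_lift_of_range_subset (ι ≫ b) ι' (by
    rintro _ ⟨w, rfl⟩
    exact hΔ.ge ⟨ι w, ⟨w, rfl⟩, rfl⟩)
  haveI hk : IsClosedImmersion (Spec.map (CommRingCat.ofHom (IsLocalRing.residue R))) :=
    IsClosedImmersion.spec_of_surjective _ IsLocalRing.residue_surjective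
  have hw : h ≫ Δ.curve.hom = (Γ i.castSucc).curve.hom := by
    have e1 : ι ≫ b ≫ p' = (Γ i.castSucc).curve.hom ≫ Spec.map (CommRingCat.ofHom (IsLocalRing.residue R)) := (Γ i.castSucc).w
    have e2 : ι' ≫ p' = Δ.curve.hom ≫ Spec.map (CommRingCat.ofHom (IsLocalRing.residue R)) := Δ.w
    rw [← cancel_mono (Spec.map (CommRingCat.ofHom (IsLocalRing.residue R))), Category.assoc, ← e2, ← Category.assoc, hh, Category.assoc, e1]
  have hsurj : Surjective h := ⟨fun z => by
    obtain ⟨_, ⟨w, rfl⟩, hwe⟩ := hΔ.le ⟨z, rfl⟩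
    refine ⟨w, ι'.isClosedEmbedding.injective ?_⟩
    rw [← Scheme.Hom.comp_apply, hh]
    exact hwe⟩
  let W : X'.Opens := ⟨{y}ᶜ, D.data.closed.isOpen_compl⟩
  let U : Δ.curve.left.Opens := ι' ⁻¹ᵁ W
  haveI : IsIso (b ∣_ W) := isIso_restrict D.data.closed (D.data.blow _)
  have h1 : IsClosedImmersion ((h ≫ ι') ∣_ W) := by
    haveI : IsClosedImmersion (ι ∣_ (b ⁻¹ᵁ W)) :=
      MorphismProperty.of_isPullback (isPullback_morphismRestrict ι (b ⁻¹ᵁ W)).flip inferInstance
    rw [hh, morphismRestrict_comp]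
    infer_instance
  rw [morphismRestrict_comp] at h1
  haveI := h1
  haveI : IsClosedImmersion (h ∣_ U) := IsClosedImmersion.of_comp (h ∣_ U) (ι' ∣_ W)
  haveI : Surjective (h ∣_ U) := IsZariskiLocalAtTarget.restrict hsurj U
  haveI : IsReduced (U : Scheme.{u}) := isReduced_of_isOpenImmersion U.ι
  haveI : IsIso (h ∣_ U) := isIso_of_isClosedImmersion_of_surjective (h ∣_ U)
  have hUne : genericPoint Δ.curve.left ∈ U := fun he => D.gen_off (Fin.castSucc_ne_last i)
    ((D.genPt_eq hΔ).symm.trans he)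
  have hGne : genericPoint G ∈ h ⁻¹ᵁ U := fun he => D.gen_off (Fin.castSucc_ne_last i) (by
    have e : ι' (h (genericPoint G)) = b (ι (genericPoint G)) := by
      rw [← Scheme.Hom.comp_apply, hh]; rfl
    exact e.symm.trans he)
  letI : Δ.curve.left.Over (Spec (CommRingCat.of (IsLocalRing.ResidueField R))) := ⟨Δ.curve.hom⟩
  letI : G.Over (Spec (CommRingCat.of (IsLocalRing.ResidueField R))) := ⟨(Γ i.castSucc).curve.hom⟩
  haveI : IsProper (Δ.curve.left ↘ Spec (CommRingCat.of (IsLocalRing.ResidueField R))) :=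
    ArInter.isProper_curve hS' Δ
  haveI : IsProper (G ↘ Spec (CommRingCat.of (IsLocalRing.ResidueField R))) :=
    ArInter.isProper_curve D.surf (Γ i.castSucc)
  have hM := (M2.isInvertible_iff_isFinLocFreeOfRank_one _).1
    (PicLoc.isInvertible_pullback ι' (M2.isInvertible_idealMod J hJ))
  have key := AmpleFin18.deg_pullback_birational (k := IsLocalRing.ResidueField R) Δ.dim_eq.le
    (Γ i.castSucc).dim_eq.le h hw U (U.isOpen.dense ⟨_, hUne⟩) ((h ⁻¹ᵁ U).isOpen.dense ⟨_, hGne⟩) hM
  obtain ⟨e1⟩ := ArInter.nonempty_pullback_idealMod b hJ hJ'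
  let φ := (Scheme.Modules.pullback ι).mapIso e1.symm ≪≫ (Scheme.Modules.pullbackComp ι b).app _ ≪≫
    (Scheme.Modules.pullbackCongr hh.symm).app _ ≪≫ ((Scheme.Modules.pullbackComp h ι').app _).symm
  unfold ArInter.ideg
  rw [CurveCoh17.deg_iso φ]
  exact key

/-- The intersection numbers on the contraction. -/
theorem Ctx.inter_formula (hS' : ArInter.IsSurf (Over.mk p')) (L : Fin (n + 1) → X.Modules)
    (hL : ∀ q, ClSub.IsInverseOf (L q) (ClSub.idealMod (Γ q).ι.ker))
    (Γ' : Fin n → ArSurf.VertComp R (Over.mk p'))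
    (hΓ' : ∀ i, Set.range ((Γ' i).ι.base : _ → X') = b.base '' Set.range ((Γ i.castSucc).ι.base : _ → X))
    (L' : Fin n → X'.Modules) (hL' : ∀ j, ClSub.IsInverseOf (L' j) (ClSub.idealMod (Γ' j).ι.ker)) (i j : Fin n) :
    ArSurf.inter R (Over.mk p') (L' j) (Γ' i) * ArSurf.inter R (Over.mk (b ≫ p')) (L (Fin.last n)) (Γ (Fin.last n)) =
      ArSurf.inter R (Over.mk (b ≫ p')) (L j.castSucc) (Γ i.castSucc) *
          ArSurf.inter R (Over.mk (b ≫ p')) (L (Fin.last n)) (Γ (Fin.last n)) -
        ArSurf.inter R (Over.mk (b ≫ p')) (L (Fin.last n)) (Γ i.castSucc) *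
          ArSurf.inter R (Over.mk (b ≫ p')) (L (Fin.last n)) (Γ j.castSucc) := by
  have hE' := ArInter.isEffCartierIdeal_ker (X := Over.mk p') (Γ := Γ' j) (L := L' j) (hL' j)
  obtain ⟨e, hF, he⟩ := D.exists_transform (hΓ' j) hE'
  have h0 := he (Γ (Fin.last n))
  rw [D.ideg_last hE' hF] at h0
  have hi := he (Γ i.castSucc)
  rw [D.ideg_image (hΓ' i) hE' hF hS'] at hi
  rw [ArInter.inter_eq_neg_ideg hS' (Γ' i) hE' (hL' j),
    ArInter.inter_eq_neg_ideg D.surf (Γ (Fin.last n)) (D.eff _) (hL _),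
    ArInter.inter_eq_neg_ideg D.surf (Γ i.castSucc) (D.eff _) (hL j.castSucc),
    ArInter.inter_eq_neg_ideg D.surf (Γ i.castSucc) (D.eff _) (hL (Fin.last n)),
    ArInter.inter_eq_neg_ideg D.surf (Γ j.castSucc) (D.eff _) (hL (Fin.last n)), hi]
  have hsymm : ArInter.ideg (Γ j.castSucc) (Γ (Fin.last n)).ι.ker =
      ArInter.ideg (Γ (Fin.last n)) (Γ j.castSucc).ι.ker := by
    have hne : ∀ {p q : Fin (n + 1)}, p ≠ q →
        Models.genPtOf R (Over.mk (b ≫ p')) (Γ p) ∉ ((Γ q).ι.ker.support : Set (Over.mk (b ≫ p')).left) := fun {p q} hpq => by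
      rw [ArInter.coe_support_ker]
      exact ArInter.genPtOf_notMem_range D.surf.pre (D.eff p) (D.eff q) fun e => hpq (D.list.1 e)
    rw [ArInter.ideg_eq_neg_lengthH D.surf _ (D.eff _) (hne (Fin.castSucc_ne_last j)),
      ArInter.ideg_eq_neg_lengthH D.surf _ (D.eff _) (hne (Fin.castSucc_ne_last j).symm), sup_comm]
  rw [hsymm]
  linear_combination (ArInter.ideg (Γ i.castSucc) (Γ (Fin.last n)).ι.ker) * h0.symm

end Groth.Agent.ContrModel
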