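import Groth.Agent.Lib.ContrModel32.Alg
import Groth.Agent.Lib.RegRat32.Point
import Groth.Agent.Lib.PointBlowUp32.Chart
import Groth.Agent.Lib.PointBlowUp32.Universal
import Mathlib

/-!
# A contraction of a scheme of finite type is of finite type
-/

set_option autoImplicit false
set_option linter.style.haveILetI false
set_option linter.unusedSectionVars false
set_option backward.isDefEq.respectTransparency false
set_option maxHeartbeats 1000000

universe u

open CategoryTheory CategoryTheory.Limits AlgebraicGeometry TopologicalSpace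

noncomputable section

namespace Groth.Agent.ContrModel

open PointBlowUp Groth.Agent.BlowUpExist Groth.Agent.BlowUpExist.ChartIdx

variable {R A : Type u} [CommRing R] [IsNoetherianRing R] [CommRing A] (a : Fin 2 → A)
  {C : (Spec (CommRingCat.of A)).IdealSheafData}
  (hC : C.ideal ⟨⊤, isAffineOpen_top _⟩ = Ideal.span (Set.range (gsec a)))
  {Z : Scheme.{u}} [IsIntegral Z] {b : Z ⟶ Spec (CommRingCat.of A)} (hb : BlowUp.IsBlowUp b C)

include hC hb

/-- The base of a blowing up in two generators is of finite type if the blowing up is. -/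
theorem finiteType_of_charts [IsReduced (Spec (CommRingCat.of A))] [IsDominant b] (θ : R →+* A)
    [LocallyOfFiniteType (b ≫ Spec.map (CommRingCat.ofHom θ))] : θ.FiniteType := by
  classical
  let ρ : ∀ V : Z.Opens, A →+* Γ(Z, V) := fun V => (Z.presheaf.map (homOfLE (le_top : V ≤ ⊤)).op).hom.comp
    (b.appTop.hom.comp (Scheme.ΓSpecIso (CommRingCat.of A)).inv.hom)
  let η := genericPoint Z
  let ι : A →+* Z.functionField := (Z.presheaf.germ ⊤ η trivial).hom.comp
    (b.appTop.hom.comp (Scheme.ΓSpecIso (CommRingCat.of A)).inv.hom)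
  haveI : Nonempty (⊤ : Z.Opens) := ⟨⟨η, trivial⟩⟩
  haveI : IsProper b := BlowUpExist.isProper_of_affine ⟨Finset.univ.image (gsec a),
    by rw [hC, Finset.coe_image, Finset.coe_univ, Set.image_univ]⟩ hb
  have hιinj : Function.Injective ι := by
    haveI : IsSchemeTheoreticallyDominant b := .of_isDominant _
    exact ((germ_injective_of_isIntegral Z (U := ⊤) η trivial).comp (b.app_injective ⊤)).comp
      (ConcreteCategory.bijective_of_isIso (Scheme.ΓSpecIso (CommRingCat.of A)).inv).1
  letI algK : Algebra R Z.functionField := (ι.comp θ).toAlgebra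
  have hgerm : ∀ (G : Z.Opens) (hG : η ∈ G) (c : A), (Z.presheaf.germ G η hG).hom (ρ G c) = ι c :=
    fun G hG c => Z.presheaf.germ_res_apply _ _ _ _
  have chart : ∀ k : Fin 2, η ∈ (cidx a hC k).locus b → ∃ v : Z.functionField, ι (a k) ≠ 0 ∧
      ι (a k) * v = ι (a (1 - k)) ∧ (v ≠ 0 → η ∈ (cidx a hC (1 - k)).locus b) ∧
      ∃ S : Finset Z.functionField, (∀ s ∈ S, s ∈ Algebra.adjoin R (Set.range ι ∪ {v})) ∧
        ∀ c, ι c ∈ Algebra.adjoin R (S : Set Z.functionField) := by
    intro k hk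
    let G := (cidx a hC k).locus b
    have hG : IsAffineOpen G := isAffineOpen_locus hb _
    obtain ⟨t, ht, hgen⟩ := chart_generated a hC hb k
    let ge := (Z.presheaf.germ G η hk).hom
    haveI : Nonempty G := ⟨⟨η, hk⟩⟩
    have hgeinj : Function.Injective ge := germ_injective_of_isIntegral Z (U := G) η hk
    refine ⟨ge t, ?_, ?_, fun hv => ?_, ?_⟩
    · rw [← hgerm G hk]
      exact fun h => nonZeroDivisors.ne_zero (fres_mem_nzd a hC hb k) (hgeinj (h.trans (map_zero _).symm))
    · rw [← hgerm G hk, ← hgerm G hk]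
      exact ((map_mul ge _ _).symm.trans (congrArg ge ht) :)
    · have hM := mem_basicOpen_ι (cidx a hC (1 - k)) hb.1 (V := ⟨G, hG⟩) (fun _ _ => trivial)
        (e := fres a b G k) (isEqn_locus hb (cidx a hC k)) t ht.symm
      refine le_locus hM ((Z.mem_basicOpen t η hk).2 (isUnit_iff_ne_zero.2 hv))
    · let ψ : CommRingCat.of R ⟶ Γ(Z, G) := (Scheme.ΓSpecIso (CommRingCat.of R)).inv ≫
        (b ≫ Spec.map (CommRingCat.ofHom θ)).appLE ⊤ G (fun _ _ => trivial)
      have hψ : ∀ r, ψ.hom r = ρ G (θ r) := fun r =>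
        (congrArg (fun c => (Z.presheaf.map (homOfLE (le_top : G ≤ ⊤)).op).hom (b.appTop.hom c))
          (ConcreteCategory.congr_hom (Scheme.ΓSpecIso_inv_naturality (CommRingCat.ofHom θ)) r).symm :)
      have hft : ψ.hom.FiniteType := by
        rw [CommRingCat.hom_comp]
        exact RingHom.FiniteType.comp
          (HasRingHomProperty.appLE (P := @LocallyOfFiniteType) _ inferInstance ⟨⊤, isAffineOpen_top _⟩ ⟨G, hG⟩ _)
          (RingHom.FiniteType.of_surjective _
            (ConcreteCategory.bijective_of_isIso (Scheme.ΓSpecIso (CommRingCat.of R)).inv).2)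
      letI : Algebra R Γ(Z, G) := ψ.hom.toAlgebra
      haveI : Algebra.FiniteType R Γ(Z, G) := hft
      let geA : Γ(Z, G) →ₐ[R] Z.functionField := { ge with commutes' := fun r => (congrArg ge (hψ r)).trans (hgerm G hk _) }
      obtain ⟨S, hS⟩ := (inferInstance : Algebra.FiniteType R Γ(Z, G)).out
      refine ⟨S.image geA, fun s hs => ?_, fun c => ?_⟩
      · obtain ⟨z, -, rfl⟩ := Finset.mem_image.1 hs
        obtain ⟨P, rfl⟩ := hgen z
        show ge (Polynomial.eval₂ (ρ G) t P) ∈ _
        rw [Polynomial.hom_eval₂, Polynomial.eval₂_eq_sum_range]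
        refine Subalgebra.sum_mem _ fun i _ => mul_mem ?_ (pow_mem (Algebra.subset_adjoin (Set.mem_union_right _ (Set.mem_singleton _))) _)
        exact Algebra.subset_adjoin (Set.mem_union_left _ ⟨_, (hgerm G hk _).symm⟩)
      · rw [← hgerm G hk c, Finset.coe_image, Algebra.adjoin_image, hS]
        exact ⟨ρ G c, trivial, rfl⟩
  let ιA : @AlgHom R A Z.functionField _ _ _ θ.toAlgebra algK :=
    letI := θ.toAlgebra; { ι with commutes' := fun _ => rfl }
  letI := θ.toAlgebra
  suffices h : ιA.range.FG by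
    haveI : Algebra.FiniteType R ιA.range := ιA.range.fg_iff_finiteType.1 h
    show Algebra.FiniteType R A
    exact Algebra.FiniteType.equiv inferInstance (AlgEquiv.ofInjective ιA hιinj).symm
  have hrange : (ιA.range : Set Z.functionField) = Set.range ι := rfl
  obtain ⟨k, hk⟩ := exists_mem_locus a hC hb η
  obtain ⟨v, hak, hv, hv', S₀, hS₀, hA₀⟩ := chart k hk
  rcases eq_or_ne v 0 with rfl | hv0
  · refine ⟨S₀, le_antisymm (Algebra.adjoin_le fun s hs => ?_) fun x hx => ?_⟩
    · refine (Algebra.adjoin_le ?_ : _ ≤ ιA.range) (hS₀ s hs)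
      rintro y (hy | rfl)
      · exact hy
      · exact zero_mem _
    · obtain ⟨c, rfl⟩ := hx
      exact hA₀ c
  · obtain ⟨w, -, hw, -, S₁, hS₁, hA₁⟩ := chart (1 - k) (hv' hv0)
    rw [sub_sub_cancel] at hw
    obtain rfl : w = v⁻¹ := by
      refine eq_inv_of_mul_eq_one_left (mul_left_cancel₀ hak ?_)
      calc ι (a k) * (w * v) = (ι (a k) * v) * w := by ring
        _ = ι (a k) * 1 := by rw [hv, hw, mul_one]
    refine fg_of_two_charts ιA.range hv0 S₀ S₁ ?_ ?_ ?_ ?_
    · rwa [hrange]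
    · rwa [hrange]
    · rintro _ ⟨c, rfl⟩; exact hA₀ c
    · rintro _ ⟨c, rfl⟩; exact hA₁ c

end Groth.Agent.ContrModel

namespace Groth.Agent.ContrModel

open PointBlowUp

variable {R : Type u} [CommRing R] [IsNoetherianRing R] {X Y : Scheme.{u}}

/-- The target of a blowing up of a regular point of dimension two is of finite type if the source is. -/
theorem locallyOfFiniteType_down [IsIntegral X] [IsIntegral Y] [IsLocallyNoetherian Y]
    (p' : Y ⟶ Spec (CommRingCat.of R)) (b : X ⟶ Y) [Surjective b] {y : Y} (hy : IsClosed ({y} : Set Y))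
    (hb : BlowUp.IsBlowUp b (ptIdeal hy)) [IsRegularLocalRing (Y.presheaf.stalk y)]
    (hdim : ringKrullDim (Y.presheaf.stalk y) = 2) [LocallyOfFiniteType (b ≫ p')] :
    LocallyOfFiniteType p' := by
  classical
  have hbasis := RegRat.isBasis_goodOpens hy hdim
  choose W hW hxW _ using fun x : Y => Opens.isBasis_iff_nbhd.1 hbasis (show x ∈ (⊤ : Y.Opens) from trivial)
  let 𝒰 : Y.OpenCover := Y.openCoverOfIsOpenCover W
    (eq_top_iff.2 fun x _ => Opens.mem_iSup.2 ⟨x, hxW x⟩)
  refine IsZariskiLocalAtSource.of_openCover (P := @LocallyOfFiniteType) 𝒰 fun x => ?_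
  show LocallyOfFiniteType ((Scheme.Opens.ι (W x)) ≫ p')
  obtain ⟨hWa, hy' | ⟨p, q, hpq⟩⟩ := hW x
  · haveI := PointBlowUp.isIso_restrict hy hb
    haveI : IsIso (b ∣_ W x) := PointBlowUp.isIso_restrict_le b (⟨{y}ᶜ, hy.isOpen_compl⟩ : Y.Opens) (W x)
      fun w hw (h : w = y) => hy' (h ▸ hw)
    rw [show (Scheme.Opens.ι (W x)) ≫ p' = inv (b ∣_ W x) ≫ (Scheme.Opens.ι (b ⁻¹ᵁ W x)) ≫ b ≫ p' by
      rw [← morphismRestrict_ι_assoc, IsIso.inv_hom_id_assoc]]
    infer_instance
  · let φ := hWa.fromSpec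
    let C := (ptIdeal hy).comap φ
    have hbl := BlowUp26.isBlowUp_flat_baseChange φ hb
    have himg : φ ''ᵁ ⊤ = W x := by rw [Scheme.Hom.image_top_eq_opensRange, IsAffineOpen.opensRange_fromSpec]
    have aux : ∀ V : Y.affineOpens, V = ⟨W x, hWa⟩ → ∃ p' q' : Γ(Y, V.1), (ptIdeal hy).ideal V = Ideal.span {p', q'} := by
      rintro _ rfl
      exact ⟨p, q, hpq⟩
    obtain ⟨p₁, q₁, hpq₁⟩ := aux ⟨φ ''ᵁ ⊤, (isAffineOpen_top _).image_of_isOpenImmersion φ⟩ (Subtype.ext himg)
    let e := φ.appIso ⊤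
    let a : Fin 2 → Γ(Y, W x) :=
      ![(Scheme.ΓSpecIso Γ(Y, W x)).hom (e.hom p₁), (Scheme.ΓSpecIso Γ(Y, W x)).hom (e.hom q₁)]
    have hC : C.ideal ⟨⊤, isAffineOpen_top _⟩ = Ideal.span (Set.range (gsec (A := Γ(Y, W x)) a)) := by
      have hr : Set.range (gsec (A := Γ(Y, W x)) a) = {e.hom.hom p₁, e.hom.hom q₁} := by
        have hinv : ∀ c, (Scheme.ΓSpecIso (CommRingCat.of Γ(Y, W x))).inv ((Scheme.ΓSpecIso Γ(Y, W x)).hom c) = c :=
          fun c => Iso.hom_inv_id_apply (Scheme.ΓSpecIso Γ(Y, W x)) c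
        have h0 : gsec (A := Γ(Y, W x)) a 0 = e.hom.hom p₁ := hinv (e.hom p₁)
        have h1 : gsec (A := Γ(Y, W x)) a 1 = e.hom.hom q₁ := hinv (e.hom q₁)
        ext v
        constructor
        · rintro ⟨i, rfl⟩
          fin_cases i
          · exact Or.inl h0
          · exact Or.inr h1
        · rintro (rfl | rfl)
          · exact ⟨0, h0⟩
          · exact ⟨1, h1⟩
      rw [hr, show ({e.hom.hom p₁, e.hom.hom q₁} : Set _) = e.hom.hom '' {p₁, q₁} from (Set.image_pair _ _ _).symm]
      refine Eq.trans ?_ (Ideal.map_span e.hom.hom {p₁, q₁})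
      refine ((Scheme.IdealSheafData.ideal_comap_of_isOpenImmersion (ptIdeal hy) φ ⟨⊤, isAffineOpen_top _⟩).trans
        (congrArg (Ideal.comap e.inv.hom) hpq₁)).trans ?_
      refine le_antisymm (fun v hv => ?_) (Ideal.map_le_iff_le_comap.2 fun v hv => ?_)
      · have h := Ideal.mem_map_of_mem e.hom.hom (show e.inv.hom v ∈ Ideal.span {p₁, q₁} from hv)
        have hv' : e.hom.hom (e.inv.hom v) = v := Iso.inv_hom_id_apply e v
        rwa [hv'] at h
      · rw [Ideal.mem_comap, Ideal.mem_comap]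
        have hv' : e.inv.hom (e.hom.hom v) = v := Iso.hom_inv_id_apply e v
        rwa [hv']
    obtain ⟨z, hz⟩ := b.surjective x
    haveI : IsOpenImmersion φ := inferInstanceAs (IsOpenImmersion hWa.fromSpec)
    have hzr : z ∈ Set.range (pullback.snd φ b) := by
      rw [Scheme.Pullback.range_snd, IsAffineOpen.range_fromSpec]
      show b z ∈ (W x : Set Y)
      rw [hz]; exact hxW x
    obtain ⟨z', -⟩ := hzr
    haveI : Nonempty (↥(pullback φ b)) := ⟨z'⟩
    haveI : IsIntegral (pullback φ b) := isIntegral_of_isOpenImmersion (pullback.snd φ b)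
    haveI : Surjective (pullback.fst φ b) := MorphismProperty.pullback_fst _ _ inferInstance
    haveI : IsReduced (Spec Γ(Y, W x)) := isReduced_of_isOpenImmersion φ
    haveI : IsReduced (Spec (CommRingCat.of Γ(Y, W x))) := ‹_›
    let θ : R →+* Γ(Y, W x) := (Spec.preimage (φ ≫ p')).hom
    have hθ : Spec.map (CommRingCat.ofHom θ) = φ ≫ p' := Spec.map_preimage _
    haveI : LocallyOfFiniteType (pullback.fst φ b ≫ Spec.map (CommRingCat.ofHom θ)) := by
      rw [hθ, pullback.condition_assoc]; infer_instance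
    haveI : IsDominant (pullback.fst φ b) := inferInstance
    have hfin : θ.FiniteType := finiteType_of_charts (A := Γ(Y, W x)) a hC hbl θ
    haveI : LocallyOfFiniteType (φ ≫ p') := by
      rw [← hθ]; exact (HasRingHomProperty.Spec_iff (P := @LocallyOfFiniteType)).2 hfin
    rw [show (Scheme.Opens.ι (W x)) ≫ p' = hWa.isoSpec.hom ≫ φ ≫ p' by rw [← IsAffineOpen.isoSpec_inv_ι_assoc]; simp]
    infer_instance

end Groth.Agent.ContrModel
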