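import Groth.Agent.Lib.ContrModel32.Model
import Groth.Agent.Lib.MinGenus0_32.Fibre
import Groth.Agent.Lib.AmpleFin18.Birational
import Groth.Agent.Lib.CubeField.Square
import Groth.Agent.Lib.ArInter.Deg
import Groth.Agent.Lib.ArInter.Geometric
import Mathlib

/-!
# Components and intersection numbers after a contraction
-/

set_option autoImplicit false
set_option linter.style.haveILetI false
set_option linter.unusedSectionVars false
set_option backward.isDefEq.respectTransparency false
set_option maxHeartbeats 1600000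

universe u

open CategoryTheory CategoryTheory.Limits AlgebraicGeometry TopologicalSpace

noncomputable section

namespace Groth.Agent.ContrModel

open PointBlowUp MinModel

variable {R : Type u} [CommRing R] [IsDomain R] [IsDiscreteValuationRing R]
variable {C X X' : Scheme.{u}} {f : C ⟶ Spec (CommRingCat.of (FractionRing R))}
  {p' : X' ⟶ Spec (CommRingCat.of R)} {b : X ⟶ X'} {y : X'}

/-- The situation: a regular proper model with the last component contracted to a point. -/
structure Ctx (b : X ⟶ X') (p' : X' ⟶ Spec (CommRingCat.of R)) (y : X') (C : Scheme.{u})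
    (f : C ⟶ Spec (CommRingCat.of (FractionRing R))) {n : ℕ}
    (Γ : Fin (n + 1) → ArSurf.VertComp R (Over.mk (b ≫ p'))) : Prop where
  data : Data (p' := p') b y
  curve : Curve.IsSmoothProperCurve (FractionRing R) C f
  h0 : IsIso f.appTop
  model : Models.IsRegularProperModel R X (b ≫ p') C f
  list : Models.IsComponentList R (Over.mk (b ≫ p')) Γ
  exc : Models.IsExcCurve (Γ (Fin.last n)).ι
  last_over : ∀ w, b ((Γ (Fin.last n)).ι w) = y

variable {n : ℕ} {Γ : Fin (n + 1) → ArSurf.VertComp R (Over.mk (b ≫ p'))} (D : Ctx b p' y C f Γ)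
include D

theorem Ctx.surf : ArInter.IsSurf (Over.mk (b ≫ p')) := ArInter.isSurf_of_model D.curve D.model

theorem Ctx.eff (i : Fin (n + 1)) : BlowUp.IsEffCartierIdeal (Γ i).ι.ker :=
  ArInter.isEffCartierIdeal_component D.surf.pre D.model.2.2 D.list i

theorem Ctx.preimage_pt : b ⁻¹' {y} = Set.range ((Γ (Fin.last n)).ι.base : _ → X) := by
  haveI := D.data.noeth; haveI := D.data.proper; haveI := D.data.regular
  haveI := (Γ (Fin.last n)).isClosedImmersion
  ext x
  constructor
  · exact fun h => mem_range_of_over b D.data.closed (D.data.blow _) D.data.dim (Γ (Fin.last n)).ι D.exc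
      D.last_over h
  · rintro ⟨w, rfl⟩
    exact D.last_over w

theorem Ctx.gen_off {i : Fin (n + 1)} (hi : i ≠ Fin.last n) :
    b (Models.genPtOf R (Over.mk (b ≫ p')) (Γ i)) ≠ y := fun h =>
  ArInter.genPtOf_notMem_range D.surf.pre (D.eff i) (D.eff (Fin.last n)) (fun e => hi (D.list.1 e))
    (D.preimage_pt.le h)

theorem Ctx.max (i : Fin (n + 1)) : Maximal (fun S : Set X => IsIrreducible S ∧
    S ⊆ Models.specialFibreSet R (Over.mk (b ≫ p'))) (Set.range ((Γ i).ι.base : _ → X)) :=
  D.list.2.le ⟨i, rfl⟩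

theorem Ctx.cover {x : X} (hx : p' (b x) = IsLocalRing.closedPoint R) :
    ∃ i, x ∈ Set.range ((Γ i).ι.base : _ → X) := by
  obtain ⟨Z, hZ, hxZ, hmax⟩ : ∃ Z, Maximal (fun S : Set X => IsIrreducible S ∧
      S ⊆ Models.specialFibreSet R (Over.mk (b ≫ p'))) Z ∧ x ∈ Z ∧ True := by
    let S0 : Set (Set X) := {S | IsIrreducible S ∧ S ⊆ Models.specialFibreSet R (Over.mk (b ≫ p'))}
    obtain ⟨Z, hxZ, hZ⟩ := zorn_subset_nonempty S0 (fun c hc hchain hne => by
      refine ⟨⋃₀ c, ⟨⟨?_, fun u v hu hv ⟨a, ⟨ha, hau⟩⟩ ⟨a', ⟨ha', hav⟩⟩ => ?_⟩, Set.sUnion_subset fun s hs => (hc hs).2⟩,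
        fun s hs => Set.subset_sUnion_of_mem hs⟩
      · obtain ⟨s, hs⟩ := hne
        exact (hc hs).1.nonempty.mono (Set.subset_sUnion_of_mem hs)
      · obtain ⟨s, hs, has⟩ := ha
        obtain ⟨t, ht, hat⟩ := ha'
        obtain ⟨r, hr, hsr, htr⟩ : ∃ r ∈ c, s ⊆ r ∧ t ⊆ r := by
          rcases hchain.total hs ht with h | h
          · exact ⟨t, ht, h, subset_rfl⟩
          · exact ⟨s, hs, subset_rfl, h⟩
        obtain ⟨z, hz, hzuv⟩ := (hc hr).1.2 u v hu hv ⟨a, hsr has, hau⟩ ⟨a', htr hat, hav⟩
        exact ⟨z, Set.subset_sUnion_of_mem hr hz, hzuv⟩) {x} ⟨isIrreducible_singleton, by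
          rintro z rfl
          exact hx⟩
    exact ⟨Z, hZ, hxZ rfl, trivial⟩
  obtain ⟨i, hi⟩ := D.list.2.ge hZ
  exact ⟨i, (hi.symm.le hxZ :)⟩

theorem Ctx.exists_meet : ∃ (i : Fin n) (x : X), x ∈ Set.range ((Γ i.castSucc).ι.base : _ → X) ∧ b x = y := by
  by_contra hno
  push Not at hno
  haveI := D.model.2.1
  haveI := (Γ (Fin.last n)).isClosedImmersion
  let F := Models.specialFibreSet R (Over.mk (b ≫ p'))
  let B : Set X := ⋃ i : Fin n, Set.range ((Γ i.castSucc).ι.base : _ → X)
  have hB : IsClosed B := isClosed_iUnion_of_finite fun i => by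
    haveI := (Γ i.castSucc).isClosedImmersion
    exact (Γ i.castSucc).ι.isClosedEmbedding.isClosed_range
  have hA : IsClosed (Set.range ((Γ (Fin.last n)).ι.base : _ → X)) :=
    (Γ (Fin.last n)).ι.isClosedEmbedding.isClosed_range
  have hcov : F ⊆ Set.range ((Γ (Fin.last n)).ι.base : _ → X) ∪ B := fun x hx => by
    obtain ⟨i, hi⟩ := D.cover hx
    induction i using Fin.lastCases with
    | last => exact Or.inl hi
    | cast j => exact Or.inr (Set.mem_iUnion.2 ⟨j, hi⟩)
  haveI := (Γ (Fin.last n)).isIntegral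
  have hAne : (F ∩ Set.range ((Γ (Fin.last n)).ι.base : _ → X)).Nonempty :=
    ⟨_, ArInter.genPtOf_mem_specialFibreSet (Γ (Fin.last n)), ArInter.genPtOf_mem_range _⟩
  have hsub : F ⊆ Set.range ((Γ (Fin.last n)).ι.base : _ → X) := by
    intro x hx
    rcases hcov hx with h | h
    · exact h
    · exfalso
      obtain ⟨z, -, hz1, hz2⟩ := isPreconnected_closed_iff.1
        (ArInter.isConnected_specialFibreSet D.curve D.h0 D.model).isPreconnected _ _ hA hB hcov hAne ⟨x, hx, h⟩
      obtain ⟨i, hi⟩ := Set.mem_iUnion.1 hz2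
      exact hno i z hi (D.preimage_pt.ge hz1)
  have heq : Set.range ((Γ (Fin.last n)).ι.base : _ → X) = F := (D.max _).prop.2.antisymm hsub
  exact MinGenus0.not_exc_of_irreducible D.curve D.h0 D.model (show IsIrreducible F from heq ▸ (D.max (Fin.last n)).prop.1) (Γ (Fin.last n)).ι D.exc
    (D.max _).prop.2

/-- The components of the closed fibre of the contraction. -/
theorem Ctx.fibreComponents : Models.fibreComponents R (Over.mk p') =
    Set.range (fun i : Fin n => b.base '' Set.range ((Γ i.castSucc).ι.base : _ → X)) := by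
  classical
  haveI := D.data.noeth; haveI := D.data.proper
  haveI := D.data.surjective
  let Z : Fin n → Set X' := fun i => b.base '' Set.range ((Γ i.castSucc).ι.base : _ → X)
  have hZc : ∀ i, IsClosed (Z i) := fun i => by
    haveI := (Γ i.castSucc).isClosedImmersion
    exact b.isClosedMap _ (Γ i.castSucc).ι.isClosedEmbedding.isClosed_range
  have hZP : ∀ i, IsIrreducible (Z i) ∧ Z i ⊆ Models.specialFibreSet R (Over.mk p') := fun i =>
    ⟨(D.max i.castSucc).prop.1.image _ b.continuous.continuousOn, by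
      rintro _ ⟨x, hx, rfl⟩
      exact (D.max i.castSucc).prop.2 hx⟩
  -- an irreducible subset of the fibre with generic point off `y` lies in some `Z j`
  have key : ∀ (T : Set X') (η : X'), η ≠ y → η ∈ Models.specialFibreSet R (Over.mk p') → T ⊆ closure {η} →
      ∃ j, T ⊆ Z j ∧ η ∈ Z j := by
    intro T η hη hηF hT
    obtain ⟨x, rfl⟩ := b.surjective η
    obtain ⟨i, hi⟩ := D.cover hηF
    induction i using Fin.lastCases with
    | last => exact absurd (D.preimage_pt.ge hi) hη
    | cast j =>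
      exact ⟨j, hT.trans (closure_minimal (Set.singleton_subset_iff.2 ⟨x, hi, rfl⟩) (hZc j)), ⟨x, hi, rfl⟩⟩
  have hFc : IsClosed (Models.specialFibreSet R (Over.mk p')) := Models.isClosed_specialFibreSet R (Over.mk p')
  have hZmax : ∀ i, Maximal (fun S : Set X' => IsIrreducible S ∧ S ⊆ Models.specialFibreSet R (Over.mk p')) (Z i) := by
    refine fun i => ⟨hZP i, fun S hS hle => ?_⟩
    haveI := (Γ i.castSucc).isClosedImmersion
    obtain ⟨η, hη⟩ := QuasiSober.sober hS.1.closure isClosed_closure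
    have hηF : η ∈ Models.specialFibreSet R (Over.mk p') := closure_minimal hS.2 hFc hη.mem
    let ξ := Models.genPtOf R (Over.mk (b ≫ p')) (Γ i.castSucc)
    have hξ : b ξ ≠ y := D.gen_off (Fin.castSucc_ne_last i)
    have hξS : b ξ ∈ closure S := subset_closure (hle ⟨ξ, ArInter.genPtOf_mem_range _, rfl⟩)
    have hηy : η ≠ y := fun h => hξ (by
      have := hη.def.ge hξS
      rw [h, D.data.closed.closure_eq] at this
      exact this)
    obtain ⟨j, hj, -⟩ := key (closure S) η hηy hηF hη.def.ge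
    obtain ⟨x, hx, hxe⟩ := hj hξS
    have hxξ : x = ξ := eq_of_ne D.data.closed (D.data.blow _) (hxe ▸ hξ) hxe
    have hij : Set.range ((Γ i.castSucc).ι.base : _ → X) = Set.range ((Γ j.castSucc).ι.base : _ → X) := by
      refine (D.max i.castSucc).eq_of_le (D.max j.castSucc).prop ?_
      haveI := (Γ j.castSucc).isClosedImmersion
      exact (ArInter.range_eq_closure _).le.trans (closure_minimal (Set.singleton_subset_iff.2 (show ξ ∈ _ from hxξ ▸ hx))
        (Γ j.castSucc).ι.isClosedEmbedding.isClosed_range)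
    exact (subset_closure.trans hj).trans (Set.image_mono hij.ge)
  ext T
  constructor
  · intro hT
    change Maximal (fun S : Set X' => IsIrreducible S ∧ S ⊆ Models.specialFibreSet R (Over.mk p')) T at hT
    have hTc : closure T = T := (hT.eq_of_le ⟨hT.prop.1.closure, closure_minimal hT.prop.2 hFc⟩ subset_closure).symm
    obtain ⟨η, hη⟩ := QuasiSober.sober hT.prop.1 (hTc ▸ isClosed_closure)
    have hTη : T ⊆ closure {η} := hη.def.ge
    by_cases hηy : η = y
    · obtain ⟨i, x, hx, hxy⟩ := D.exists_meet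
      refine ⟨i, (hT.eq_of_le (hZP i) ?_).symm⟩
      rw [hηy, D.data.closed.closure_eq] at hTη
      exact hTη.trans (Set.singleton_subset_iff.2 ⟨x, hx, hxy⟩)
    · obtain ⟨j, hj, -⟩ := key T η hηy (hT.prop.2 hη.mem) hTη
      exact ⟨j, (hT.eq_of_le (hZP j) hj).symm⟩
  · rintro ⟨i, rfl⟩
    exact hZmax i

variable {Δ : ArSurf.VertComp R (Over.mk p')} {i : Fin n}
  (hΔ : Set.range (Δ.ι.base : _ → X') = b.base '' Set.range ((Γ i.castSucc).ι.base : _ → X))
include hΔ

theorem Ctx.genPt_eq : Models.genPtOf R (Over.mk p') Δ = b (Models.genPtOf R (Over.mk (b ≫ p')) (Γ i.castSucc)) := by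
  haveI := D.data.proper
  haveI := Δ.isClosedImmersion
  let ξ := Models.genPtOf R (Over.mk (b ≫ p')) (Γ i.castSucc)
  have h1 : b ξ ∈ Set.range (Δ.ι.base : _ → X') := hΔ.ge ⟨ξ, ArInter.genPtOf_mem_range _, rfl⟩
  rw [ArInter.range_eq_closure Δ] at h1
  have h2 : Models.genPtOf R (Over.mk p') Δ ∈ closure ({b ξ} : Set X') := by
    have h := hΔ.le (ArInter.genPtOf_mem_range Δ)
    rw [ArInter.range_eq_closure] at h
    obtain ⟨x, hx, hxe⟩ := h
    exact hxe ▸ specializes_iff_mem_closure.1 ((specializes_iff_mem_closure.2 hx).map b.continuous)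
  exact ((specializes_iff_mem_closure.2 h2).antisymm (specializes_iff_mem_closure.2 h1)).eq.symm

theorem Ctx.mult_eq : Models.mult R (Over.mk p') Δ = Models.mult R (Over.mk (b ≫ p')) (Γ i.castSucc) := by
  have hoff := D.gen_off (Fin.castSucc_ne_last i)
  haveI := isIso_stalkMap_off D.data.closed (D.data.blow _) hoff
  unfold Models.mult
  rw [D.genPt_eq hΔ]
  refine congrArg ENat.toNat ?_
  refine length_quotient_ringEquiv (asIso (b.stalkMap _)).commRingCatIsoToRingEquiv _ _ ?_
  rw [Ideal.map_map]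
  refine congrArg (fun φ => Ideal.map φ (IsLocalRing.maximalIdeal R)) (RingHom.ext fun r => ?_)
  exact Scheme.Hom.germ_stalkMap_apply b ⊤ _ trivial _

end Groth.Agent.ContrModel
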