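import Groth.Agent.Lib.ContrModel32.Lft
import Groth.Agent.Lib.MinModel32.Seq
import Groth.Agent.Lib.ArInter.Fibre
import Groth.Agent.Lib.SubSpec19.Pieces
import Mathlib

/-!
# The contraction of an exceptional curve in a regular proper model
-/

set_option autoImplicit false
set_option linter.style.haveILetI false
set_option linter.unusedSectionVars false
set_option backward.isDefEq.respectTransparency false
set_option maxHeartbeats 1000000

universe u

open CategoryTheory CategoryTheory.Limits AlgebraicGeometry TopologicalSpace

noncomputable section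

namespace Groth.Agent.ContrModel

open PointBlowUp MinModel

/-- Away from the point, the blowing up is an isomorphism on stalks. -/
theorem isIso_stalkMap_off {X Y : Scheme.{u}} {y : Y} (hy : IsClosed ({y} : Set Y)) {b : X ⟶ Y}
    (hb : BlowUp.IsBlowUp b (ptIdeal hy)) {x : X} (hx : b x ≠ y) : IsIso (b.stalkMap x) := by
  haveI := isIso_restrict hy hb
  let U : Y.Opens := ⟨{y}ᶜ, hy.isOpen_compl⟩
  haveI : IsOpenImmersion (b ∣_ U) := IsOpenImmersion.of_isIso _
  have h1 : IsIso ((b ∣_ U).stalkMap ⟨x, hx⟩) := inferInstance
  exact ((MorphismProperty.isomorphisms CommRingCat.{u}).arrow_mk_iso_iff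
    (morphismRestrictStalkMap b U ⟨x, hx⟩)).1 h1

theorem isSeparated_down {X Y S : Scheme.{u}} (b : X ⟶ Y) (p' : Y ⟶ S) [IsProper b] [Surjective b]
    [IsSeparated (b ≫ p')] : IsSeparated p' := by
  refine ⟨IsClosedImmersion.of_isPreimmersion _ ?_⟩
  let m := pullback.map (b ≫ p') (b ≫ p') p' p' b b (𝟙 _) (Category.comp_id _) (Category.comp_id _)
  haveI : IsProper m :=
    MorphismProperty.pullbackMap (P := @IsProper) ‹_› ‹_› (Category.comp_id _) (Category.comp_id _)
  have hd : pullback.diagonal (b ≫ p') ≫ m = b ≫ pullback.diagonal p' := by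
    apply pullback.hom_ext <;> simp [m]
  have hr : Set.range (pullback.diagonal p').base = Set.range (pullback.diagonal (b ≫ p') ≫ m).base := by
    rw [hd, Scheme.Hom.comp_base, TopCat.coe_comp, Set.range_comp, Set.range_eq_univ.mpr b.surjective, Set.image_univ]
  rw [show Set.range (pullback.diagonal p') = Set.range (pullback.diagonal (b ≫ p') ≫ m) from hr]
  haveI : IsClosedImmersion (pullback.diagonal (b ≫ p')) := IsSeparated.isClosedImmersion_diagonal
  exact Scheme.Hom.isClosedMap _ |>.isClosed_range

variable {R : Type u} [CommRing R] [IsDomain R] [IsDiscreteValuationRing R]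
variable {C X X' : Scheme.{u}} {f : C ⟶ Spec (CommRingCat.of (FractionRing R))}
  {p' : X' ⟶ Spec (CommRingCat.of R)} (b : X ⟶ X')

/-- Facts about a contraction of a curve in the closed fibre. -/
structure Data (y : X') : Prop where
  noeth : IsNoetherian X'
  proper : IsProper b
  closed : IsClosed ({y} : Set X')
  regular : IsRegularLocalRing (X'.presheaf.stalk y)
  dim : ringKrullDim (X'.presheaf.stalk y) = 2
  blow : ∀ h : IsClosed ({y} : Set X'), BlowUp.IsBlowUp b (ptIdeal h)
  mapsTo : p' y = IsLocalRing.closedPoint R

variable {b} {y : X'} (D : Data (p' := p') b y)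
include D

theorem Data.surjective : Surjective b := by
  haveI := D.noeth; haveI := D.proper; haveI := D.regular
  exact RigidRel.surjective_of_h0 b fun W _ => bijective_app b D.closed (D.blow _) D.dim W

theorem Data.isIntegral [IsIntegral X] : IsIntegral X' := by
  haveI := D.noeth; haveI := D.proper; haveI := D.regular; haveI := D.surjective
  haveI : IrreducibleSpace X' := by
    haveI : Nonempty X' := ⟨y⟩
    haveI : PreirreducibleSpace X' := ⟨by
      have h := (PreirreducibleSpace.isPreirreducible_univ (X := X)).image b b.continuous.continuousOn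
      rwa [Set.image_univ, Set.range_eq_univ.mpr b.surjective] at h⟩
    exact ⟨inferInstance⟩
  haveI : IsReduced X' := ⟨fun U => isReduced_of_injective (b.app U).hom (bijective_app b D.closed (D.blow _) D.dim U).1⟩
  exact isIntegral_of_irreducibleSpace_of_isReduced X'

/-- The target of the contraction is a regular proper model. -/
theorem Data.model (hC : Curve.IsSmoothProperCurve (FractionRing R) C f)
    (hX : Models.IsRegularProperModel R X (b ≫ p') C f) {g : C ⟶ X}
    (hg : IsPullback g f (b ≫ p') (toGen R)) :
    Models.IsRegularProperModel R X' p' C f ∧ IsPullback (g ≫ b) f p' (toGen R) := by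
  haveI := D.noeth; haveI := D.proper; haveI := D.regular; haveI := D.surjective
  haveI := hX.2.1; haveI := hX.1.1; haveI := hX.1.2.1
  haveI := MinModel.isIntegral hC hX
  haveI := D.isIntegral
  haveI := isIso_restrict D.closed (D.blow _)
  haveI := locallyOfFiniteType_down p' b D.closed (D.blow _) D.dim
  haveI := isSeparated_down b p'
  haveI : UniversallyClosed p' := UniversallyClosed.of_comp_surjective b p'
  haveI : IsProper p' := { }
  haveI : IsIso (b ∣_ (p' ⁻¹ᵁ genU R)) := isIso_restrict_le b (⟨{y}ᶜ, D.closed.isOpen_compl⟩ : X'.Opens) _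
    fun w hw (h : w = y) => (show p' w ≠ IsLocalRing.closedPoint R from hw) (h ▸ D.mapsTo)
  have hg' : IsPullback (g ≫ b) f p' (toGen R) := gen_down b hg
  have hreg : Models.IsRegularScheme X' := fun w => by
    by_cases hw : w = y
    · exact hw ▸ D.regular
    · obtain ⟨x, rfl⟩ := b.surjective w
      haveI := isIso_stalkMap_off D.closed (D.blow _) hw
      haveI := hX.2.2 x
      exact IsRegularLocalRing.of_ringEquiv (asIso (b.stalkMap x)).commRingCatIsoToRingEquiv.symm
  haveI := hC.2.2.1
  haveI : IsDominant (b ≫ p') := ⟨fun s => by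
    have h1 : genericPoint (Spec (CommRingCat.of R) : Scheme.{u}) ∈ Set.range (b ≫ p') := by
      have h2 : (b ≫ p') (g (genericPoint C)) = toGen R (f (genericPoint C)) := by
        rw [← Scheme.Hom.comp_apply, ← Scheme.Hom.comp_apply, hg.w]
      refine ⟨g (genericPoint C), h2.trans ?_⟩
      haveI := isOpenImmersion_toGen (R := R)
      rw [Subsingleton.elim (f (genericPoint C)) (genericPoint _)]
      exact genericPoint_eq_of_isOpenImmersion (toGen R)
    exact closure_mono (Set.singleton_subset_iff.2 h1) (((genericPoint_spec _).def : closure _ = _).ge (Set.mem_univ s))⟩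
  haveI : IsDominant p' := IsDominant.of_comp b p'
  haveI : Flat p' := SubSpec19.flat_of_isIntegral p'
  exact ⟨⟨⟨inferInstance, inferInstance, inferInstance, g ≫ b, hg'⟩, inferInstance, hreg⟩, hg'⟩

end Groth.Agent.ContrModel
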